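import Groth.Prelude.Def_QFDual
import Mathlib.Algebra.Module.FinitePresentation
import Mathlib.RingTheory.Finiteness.Basic
import Mathlib.RingTheory.Noetherian.Basic

/-!
# Flat base change of `Hom_A(B, A)`
-/

universe u

open TensorProduct

namespace Groth.Agent.Lib.QFDual.FlatBase

variable {A B A₁ B₁ : Type u} [CommRing A] [CommRing B] [CommRing A₁] [CommRing B₁]
  [Algebra A B] [Algebra A A₁] [Algebra B B₁] [Algebra A₁ B₁] [Algebra A B₁]
  [IsScalarTower A A₁ B₁] [IsScalarTower A B B₁]

/-- `toDual` is a base change map, for a finitely presented module and a flat extension. -/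
theorem isBaseChange_toDual [Module.FinitePresentation A B] [Module.Flat A A₁]
    (h : Algebra.IsPushout A A₁ B B₁) : IsBaseChange A₁ h.out.toDual := by
  let e1 := (Module.FinitePresentation.isBaseChange_map A B A A₁).equiv
  let e2 : ((A₁ ⊗[A] B) →ₗ[A₁] A₁ ⊗[A] A) ≃ₗ[A₁] Module.Dual A₁ B₁ :=
    LinearEquiv.arrowCongr h.out.equiv (AlgebraTensorModule.rid A A₁ A₁)
  refine IsBaseChange.of_equiv (e1.trans e2) fun φ => ?_
  refine LinearMap.ext fun y => ?_
  obtain ⟨x, rfl⟩ := h.out.equiv.surjective y
  induction x using TensorProduct.induction_on with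
  | zero => simp
  | add x y hx hy => rw [map_add, map_add, map_add, hx, hy]
  | tmul a b =>
    have h1 : h.out.toDual φ (h.out.equiv (a ⊗ₜ b)) = a * algebraMap A A₁ (φ b) := by
      rw [IsBaseChange.equiv_tmul, map_smul, smul_eq_mul, h.out.toDual_comp_apply]
    rw [h1]
    have hb : e1 (1 ⊗ₜ φ) = LinearMap.baseChange A₁ φ := by
      simp only [e1, IsBaseChange.equiv_tmul, one_smul]
      rfl
    show AlgebraTensorModule.rid A A₁ A₁
      (e1 (1 ⊗ₜ φ) (h.out.equiv.symm (h.out.equiv (a ⊗ₜ b)))) = _
    rw [hb, LinearEquiv.symm_apply_apply]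
    simp [Algebra.smul_def, mul_comm]

theorem omegaBC_self_bijective_of (h : Algebra.IsPushout A A₁ B B₁)
    (hbc : IsBaseChange A₁ h.out.toDual) :
    Function.Bijective (_root_.QFDual.omegaBC (B₁ := B₁) h) := by
  letI mA : Module A (Disc.Omega A B) := Module.compHom _ (algebraMap A B)
  haveI : IsScalarTower A B (Disc.Omega A B) := IsScalarTower.of_algebraMap_smul fun _ _ => rfl
  let ω : Disc.Omega A B ≃ₗ[A] Module.Dual A B :=
    { toFun := fun φ => φ.toLinearMap
      invFun := fun f => ⟨f⟩
      left_inv := fun _ => rfl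
      right_inv := fun _ => rfl
      map_add' := fun _ _ => rfl
      map_smul' := fun a φ => LinearMap.ext fun x => by
        show φ.toLinearMap (algebraMap A B a * x) = a • φ.toLinearMap x
        rw [← Algebra.smul_def, map_smul] }
  haveI := h
  haveI := h.symm
  let c := Algebra.IsPushout.cancelBaseChange A A₁ B B₁ (Disc.Omega A B)
  let e := (LinearEquiv.lTensor A₁ ω).toEquiv.trans hbc.equiv.toEquiv
  let f : A₁ ⊗[A] Disc.Omega A B → Disc.Omega A₁ B₁ := fun x => ⟨e x⟩
  have hf : Function.Bijective f := by
    refine ⟨fun x y hxy => e.injective (congrArg Disc.Omega.toLinearMap hxy), fun ψ => ?_⟩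
    obtain ⟨x, hx⟩ := e.surjective ψ.toLinearMap
    exact ⟨x, Disc.Omega.ext hx⟩
  have hfadd : ∀ x y, f (x + y) = f x + f y := fun x y => by
    apply Disc.Omega.ext
    show hbc.equiv (LinearEquiv.lTensor A₁ ω (x + y)) = _
    rw [map_add, map_add]
    rfl
  have key : (TensorProduct.lid B₁ (Disc.Omega A₁ B₁)) ∘ (_root_.QFDual.omegaBC (B₁ := B₁) h) ∘ c.symm = f := by
    funext x
    induction x using TensorProduct.induction_on with
    | zero =>
      simp only [Function.comp_apply, map_zero]
      apply Disc.Omega.ext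
      show 0 = hbc.equiv (LinearEquiv.lTensor A₁ ω 0)
      rw [map_zero, map_zero]
    | add x y hx hy => simp only [Function.comp_apply, map_add, hfadd] at *; rw [hx, hy]
    | tmul a φ =>
      simp only [Function.comp_apply, c, Algebra.IsPushout.cancelBaseChange_symm_tmul,
        _root_.QFDual.omegaBC_tmul, TensorProduct.lid_tmul]
      apply Disc.Omega.ext
      refine LinearMap.ext fun z => ?_
      show h.out.toDual φ.toLinearMap (algebraMap A₁ B₁ a * z) =
        hbc.equiv (a ⊗ₜ ω φ) z
      rw [IsBaseChange.equiv_tmul, LinearMap.smul_apply, ← Algebra.smul_def, map_smul]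
      rfl
  have h1 : Function.Bijective ((_root_.QFDual.omegaBC (B₁ := B₁) h) ∘ c.symm) :=
    ((TensorProduct.lid B₁ (Disc.Omega A₁ B₁)).bijective.of_comp_iff' _).1 (key ▸ hf)
  exact (Function.Bijective.of_comp_iff _ c.symm.bijective).1 h1

theorem omegaBC_self_bijective [Module.FinitePresentation A B] [Module.Flat A A₁]
    (h : Algebra.IsPushout A A₁ B B₁) :
    Function.Bijective (_root_.QFDual.omegaBC (B₁ := B₁) h) :=
  omegaBC_self_bijective_of h (isBaseChange_toDual h)

theorem omegaBC_bijective [Module.FinitePresentation A B] [Module.Flat A A₁]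
    (h : Algebra.IsPushout A A₁ B B₁) (C : Type u) [CommRing C] [Algebra B₁ C] [Algebra B C]
    [IsScalarTower B B₁ C] : Function.Bijective (_root_.QFDual.omegaBC (B₁ := C) h) := by
  let θ := (LinearEquiv.ofBijective _ (omegaBC_self_bijective h)).trans
    (TensorProduct.lid B₁ (Disc.Omega A₁ B₁))
  let c := TensorProduct.AlgebraTensorModule.cancelBaseChange B B₁ C C (Disc.Omega A B)
  have key : _root_.QFDual.omegaBC (B₁ := C) h ∘ c = LinearEquiv.lTensor C θ := by
    funext x
    induction x using TensorProduct.induction_on with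
    | zero => simp
    | add x y hx hy => simp only [Function.comp_apply, map_add] at *; rw [hx, hy]
    | tmul cc y =>
      induction y using TensorProduct.induction_on with
      | zero => simp
      | add x y hx hy => simp only [Function.comp_apply, tmul_add, map_add] at *; rw [hx, hy]
      | tmul b φ => simp [c, θ, TensorProduct.smul_tmul]
  exact (Function.Bijective.of_comp_iff _ c.bijective).1 (key ▸ (LinearEquiv.lTensor C θ).bijective)

end Groth.Agent.Lib.QFDual.FlatBase
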