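import Mathlib.RingTheory.Support
import Mathlib.RingTheory.LocalRing.ResidueField.Fiber
import Mathlib.RingTheory.LocalRing.Module
import Mathlib.LinearAlgebra.TensorProduct.Pi
import Mathlib.RingTheory.Flat.FaithfullyFlat.Basic
import Mathlib.LinearAlgebra.Basis.VectorSpace

/-!
# Annihilators after base change
-/

universe u

open TensorProduct

namespace Groth.Agent.Lib.QFDual.AnnBaseChange

variable {B B' : Type u} [CommRing B] [CommRing B'] [Algebra B B'] {Q : Type u} [AddCommGroup Q]
  [Module B Q] [Module.Finite B Q]

theorem annihilator_baseChange_of_flat [Module.Flat B B'] :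
    Module.annihilator B' (B' ⊗[B] Q) ≤ (Module.annihilator B Q).map (algebraMap B B') := by
  obtain ⟨n, p, hp⟩ := Module.Finite.exists_fin' B Q
  let ψ : B →ₗ[B] (Fin n → Q) := LinearMap.toSpanSingleton B (Fin n → Q) fun i => p (Pi.single i 1)
  have hker : LinearMap.ker ψ = Module.annihilator B Q := by
    ext b
    rw [LinearMap.mem_ker, Module.mem_annihilator]
    constructor
    · intro hb q
      obtain ⟨v, rfl⟩ := hp q
      rw [pi_eq_sum_univ' v]
      simp only [map_sum, map_smul, Finset.smul_sum]
      refine Finset.sum_eq_zero fun i _ => ?_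
      rw [smul_comm]
      have : b • p (Pi.single i 1) = 0 := congrFun hb i
      rw [this, smul_zero]
    · intro hb
      funext i
      exact hb _
  intro x hx
  rw [Module.mem_annihilator] at hx
  have h0 : ψ.lTensor B' (x ⊗ₜ 1) = 0 := by
    apply (TensorProduct.piRight B B' B' fun _ : Fin n => Q).injective
    rw [LinearMap.lTensor_tmul, map_zero]
    funext i
    simp only [piRight_apply, piRightHom_tmul, Pi.zero_apply]
    have := hx ((1 : B') ⊗ₜ p (Pi.single i 1))
    rw [TensorProduct.smul_tmul', smul_eq_mul, mul_one] at this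
    simpa [ψ] using this
  obtain ⟨y, hy⟩ := (Module.Flat.lTensor_exact B' (LinearMap.exact_subtype_ker_map ψ) _).1 h0
  rw [← hker]
  have : ∀ y, TensorProduct.rid B B' ((LinearMap.ker ψ).subtype.lTensor B' y) ∈
      Ideal.map (algebraMap B B') (LinearMap.ker ψ) := by
    intro y
    induction y using TensorProduct.induction_on with
    | zero => simp
    | add a b ha hb => simpa only [map_add] using Ideal.add_mem _ ha hb
    | tmul a b =>
      simp only [LinearMap.lTensor_tmul, Submodule.coe_subtype, TensorProduct.rid_tmul, Algebra.smul_def]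
      exact Ideal.mul_mem_right _ _ (Ideal.mem_map_of_mem _ b.2)
  simpa [hy] using this y

theorem annihilator_baseChange_le_radical :
    Module.annihilator B' (B' ⊗[B] Q) ≤
      ((Module.annihilator B Q).map (algebraMap B B')).radical := by
  rw [Ideal.radical_eq_sInf, le_sInf_iff]
  rintro q' ⟨hq', hprime⟩ x hx
  by_contra hxq
  let q := q'.comap (algebraMap B B')
  have : q.IsPrime := Ideal.IsPrime.comap _
  have hsupp : (⟨q, this⟩ : PrimeSpectrum B) ∈ Module.support B Q := by
    rw [Module.support_eq_zeroLocus]
    exact Ideal.map_le_iff_le_comap.1 hq'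
  rw [Module.mem_support_iff_nontrivial_residueField_tensorProduct] at hsupp
  letI : Algebra q.ResidueField q'.ResidueField :=
    (Ideal.ResidueField.map q q' (algebraMap B B') rfl).toAlgebra
  have : IsScalarTower B q.ResidueField q'.ResidueField := IsScalarTower.of_algebraMap_eq fun b => by
    rw [RingHom.algebraMap_toAlgebra, Ideal.ResidueField.map_algebraMap,
      IsScalarTower.algebraMap_apply B B' q'.ResidueField]
  have : Nontrivial (q'.ResidueField ⊗[B] Q) :=
    (TensorProduct.AlgebraTensorModule.cancelBaseChange B q.ResidueField q.ResidueField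
      q'.ResidueField Q).symm.toEquiv.nontrivial
  have h0 : ∀ z : q'.ResidueField ⊗[B] Q, z = 0 := by
    intro z
    induction z using TensorProduct.induction_on with
    | zero => rfl
    | add a b ha hb => rw [ha, hb, add_zero]
    | tmul c m =>
      have hu : algebraMap B' q'.ResidueField x ≠ 0 := fun e =>
        hxq (Ideal.algebraMap_residueField_eq_zero.1 e)
      have h1 := congrArg ((Algebra.linearMap B' q'.ResidueField).restrictScalars B |>.rTensor Q)
        (Module.mem_annihilator.1 hx ((1 : B') ⊗ₜ m))
      simp only [TensorProduct.smul_tmul', smul_eq_mul, mul_one, LinearMap.rTensor_tmul,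
        LinearMap.coe_restrictScalars, Algebra.linearMap_apply, map_zero] at h1
      have h2 := congrArg (fun w => (c * (algebraMap B' q'.ResidueField x)⁻¹) • w) h1
      simpa [TensorProduct.smul_tmul', hu, mul_assoc, inv_mul_cancel₀ hu] using h2
  have : Subsingleton (q'.ResidueField ⊗[B] Q) := ⟨fun a b => by rw [h0 a, h0 b]⟩
  exact false_of_nontrivial_of_subsingleton (q'.ResidueField ⊗[B] Q)

end Groth.Agent.Lib.QFDual.AnnBaseChange
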