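import Mathlib.RingTheory.Unramified.Finite
import Mathlib.RingTheory.Trace.Defs
import Mathlib.LinearAlgebra.Trace
import Mathlib.RingTheory.Etale.Basic

/-!
# Perfectness of the trace form of a finite free unramified algebra
-/

universe u

open TensorProduct

namespace Groth.Agent.Lib.QFDual.EtaleTrace

variable (K L : Type u) [CommRing K] [CommRing L] [Algebra K L] [Module.Free K L] [Module.Finite K L]
  [Algebra.FormallyUnramified K L]

/-- The separability element gives dual families for the trace form. -/
theorem exists_dual_family : ∃ s : Finset (L × L), ∀ x : L,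
    ∑ p ∈ s, Algebra.trace K L (x * p.2) • p.1 = x := by
  obtain ⟨s, hs⟩ := TensorProduct.exists_finset (Algebra.FormallyUnramified.elem K L)
  refine ⟨s, fun x => ?_⟩
  let e := Algebra.FormallyUnramified.elem K L
  let μ : L ⊗[K] L →ₗ[L] L :=
    TensorProduct.AlgebraTensorModule.lift
      ({ toFun := fun a => (LinearMap.mulLeft K a)
         map_add' := fun a b => LinearMap.ext fun z => add_mul a b z
         map_smul' := fun a b => LinearMap.ext fun z => mul_assoc a b z } : L →ₗ[L] L →ₗ[K] L)
  have hμ : ∀ z, μ z = Algebra.TensorProduct.lmul' K z := by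
    intro z
    induction z using TensorProduct.induction_on with
    | zero => simp
    | add a b ha hb => simp only [map_add, ha, hb]
    | tmul a b => simp [μ]
  have he : ∀ z, e * z = μ z • e := by
    intro z
    induction z using TensorProduct.induction_on with
    | zero => simp
    | add a b ha hb => simp only [mul_add, map_add, add_smul, ha, hb]
    | tmul a b =>
      rw [hμ, Algebra.TensorProduct.lmul'_apply_tmul, Algebra.smul_def,
        Algebra.TensorProduct.algebraMap_apply, show algebraMap L L (a * b) = a * b from rfl,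
        show (a ⊗ₜ[K] b : L ⊗[K] L) = (a ⊗ₜ 1) * (1 ⊗ₜ b) by simp, mul_left_comm, mul_comm e,
        Algebra.FormallyUnramified.one_tmul_mul_elem, ← mul_assoc]
      simp [e]
  let u : L ⊗[K] L →ₗ[L] L ⊗[K] L := LinearMap.mulLeft L ((1 ⊗ₜ x) * e)
  have hu : u = μ.smulRight (((1 : L) ⊗ₜ[K] x) * e) := by
    refine LinearMap.ext fun z => ?_
    show (1 ⊗ₜ x) * e * z = μ z • ((1 ⊗ₜ x) * e)
    rw [mul_assoc, he, mul_smul_comm]
  have h1 : LinearMap.trace L _ u = x := by
    rw [hu, LinearMap.trace_smulRight, hμ, map_mul, Algebra.FormallyUnramified.lmul_elem]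
    simp
  have h2 : ∀ c d : L, LinearMap.trace L _ (LinearMap.mulLeft L (c ⊗ₜ[K] d : L ⊗[K] L)) =
      c * algebraMap K L (Algebra.trace K L d) := by
    intro c d
    have : LinearMap.mulLeft L (c ⊗ₜ[K] d : L ⊗[K] L) = c • (Algebra.lmul K L d).baseChange L := by
      refine LinearMap.ext fun z => ?_
      induction z using TensorProduct.induction_on with
      | zero => simp
      | add a b ha hb => simp only [map_add, ha, hb]
      | tmul a b => simp [TensorProduct.smul_tmul']
    rw [this, map_smul, LinearMap.trace_baseChange, smul_eq_mul]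
    rfl
  conv_rhs => rw [← h1]
  have : u = ∑ p ∈ s, LinearMap.mulLeft L (p.1 ⊗ₜ[K] (x * p.2) : L ⊗[K] L) := by
    refine LinearMap.ext fun z => ?_
    simp only [u, e, hs, LinearMap.coe_sum, Finset.sum_apply, LinearMap.mulLeft_apply, Finset.mul_sum,
      Finset.sum_mul, Algebra.TensorProduct.tmul_mul_tmul, one_mul]
  rw [this, map_sum]
  refine Finset.sum_congr rfl fun p _ => ?_
  rw [h2, Algebra.smul_def, mul_comm]

theorem trace_eq_zero_iff {x : L} (h : ∀ y, Algebra.trace K L (x * y) = 0) : x = 0 := by
  obtain ⟨s, hs⟩ := exists_dual_family K L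
  rw [← hs x]
  exact Finset.sum_eq_zero fun p _ => by rw [h, zero_smul]

theorem exists_trace_eq (f : L →ₗ[K] K) : ∃ x : L, ∀ y, Algebra.trace K L (x * y) = f y := by
  obtain ⟨s, hs⟩ := exists_dual_family K L
  refine ⟨∑ p ∈ s, f p.1 • p.2, fun y => ?_⟩
  conv_rhs => rw [← hs y]
  simp only [Finset.sum_mul, map_sum, map_smul, smul_mul_assoc, smul_eq_mul, mul_comm y]
  exact Finset.sum_congr rfl fun p _ => mul_comm _ _

end Groth.Agent.Lib.QFDual.EtaleTrace
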