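import Groth.Prelude.Def_QFDual
import Groth.Agent.Lib.QFDual.EtaleTrace
import Mathlib.RingTheory.Localization.Module
import Mathlib.RingTheory.Localization.BaseChange
import Mathlib.RingTheory.Flat.EquationalCriterion
import Mathlib.RingTheory.Noetherian.Basic
import Mathlib.Algebra.Module.FinitePresentation

/-!
# The complementary module and `Hom_A(B, A)`
-/

universe u

namespace Groth.Agent.Lib.QFDual.Complementary

variable {A K B L : Type u} [CommRing A] [CommRing K] [CommRing B] [CommRing L]
  [Algebra A K] [Algebra A B] [Algebra B L] [Algebra K L] [Algebra A L] [IsScalarTower A K L]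
  [IsScalarTower A B L]

theorem exists_extend (h : _root_.QFDual.IsDedekindDefined A K B L) (φ : B →ₗ[A] A) :
    ∃ F : L →ₗ[K] K, ∀ b, F (algebraMap B L b) = algebraMap A K (φ b) := by
  have := h.isFractionRing
  have := h.isLocalization
  let j : B →ₗ[A] L := (IsScalarTower.toAlgHom A B L).toLinearMap
  have hj : IsLocalizedModule (nonZeroDivisors A) j := isLocalizedModule_iff_isLocalization.2 h.isLocalization
  let f := IsLocalizedModule.lift (nonZeroDivisors A) j ((Algebra.linearMap A K).comp φ)
    (fun s => by
      rw [Module.End.isUnit_iff]
      have hu := IsLocalization.map_units K s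
      have e : ⇑(algebraMap A (Module.End A K) s) = fun x => algebraMap A K s * x := by
        funext x; simp [Algebra.smul_def]
      rw [e]
      exact IsUnit.isUnit_iff_mulLeft_bijective.1 hu)
  refine ⟨f.extendScalarsOfIsLocalization (nonZeroDivisors A) K, fun b => ?_⟩
  show f (j b) = _
  simp only [f, IsLocalizedModule.lift_apply]
  rfl

theorem ext_of_algebraMap {M : Type*} [AddCommGroup M] [Module A M] [Module K M] [IsScalarTower A K M]
    (h : _root_.QFDual.IsDedekindDefined A K B L) {F G : L →ₗ[K] M}
    (hFG : ∀ b, F (algebraMap B L b) = G (algebraMap B L b)) : F = G := by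
  have := h.isFractionRing
  have := h.isLocalization
  let j : B →ₗ[A] L := (IsScalarTower.toAlgHom A B L).toLinearMap
  have hj : IsLocalizedModule (nonZeroDivisors A) j := isLocalizedModule_iff_isLocalization.2 h.isLocalization
  refine LinearMap.ext fun x => ?_
  obtain ⟨⟨b, s⟩, hb⟩ := IsLocalizedModule.surj (nonZeroDivisors A) j x
  have hu := IsLocalization.map_units K s
  apply hu.smul_left_cancel.1
  rw [← map_smul, ← map_smul, algebraMap_smul]
  have : (s : A) • x = algebraMap B L b := hb
  rw [this]
  exact hFG b

theorem injective_algebraMap (h : _root_.QFDual.IsDedekindDefined A K B L) :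
    Function.Injective (algebraMap A K) :=
  haveI := h.isFractionRing
  IsFractionRing.injective A K

/-- The trace isomorphism between the complementary module and `Hom_A(B, A)`. -/
theorem exists_equiv (h : _root_.QFDual.IsDedekindDefined A K B L) :
    ∃ e : _root_.QFDual.complementary A K B L ≃ₗ[B] Disc.Omega A B,
      ∀ (x : _root_.QFDual.complementary A K B L) (b : B),
        algebraMap A K ((e x).toLinearMap b) = Algebra.trace K L ((x : L) * algebraMap B L b) := by
  have := h.free
  have := h.finiteKL
  have := h.etale
  have hinj := injective_algebraMap h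
  have hex : ∀ (x : _root_.QFDual.complementary A K B L) (b : B),
      ∃ a, algebraMap A K a = Algebra.trace K L ((x : L) * algebraMap B L b) := fun x b => x.2 b
  choose g hg using hex
  let e0 : _root_.QFDual.complementary A K B L → Disc.Omega A B := fun x =>
    ⟨{ toFun := g x
       map_add' := fun b c => hinj (by rw [hg, map_add, map_add, hg, hg, mul_add, map_add])
       map_smul' := fun a b => hinj (by
        rw [hg, RingHom.id_apply, smul_eq_mul, map_mul (algebraMap A K), hg, Algebra.smul_def, map_mul (algebraMap B L),
          ← IsScalarTower.algebraMap_apply, IsScalarTower.algebraMap_apply A K L, mul_left_comm,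
          ← Algebra.smul_def, map_smul, smul_eq_mul]) }⟩
  have he0 : ∀ x b, algebraMap A K ((e0 x).toLinearMap b) =
      Algebra.trace K L ((x : L) * algebraMap B L b) := hg
  let e1 : _root_.QFDual.complementary A K B L →ₗ[B] Disc.Omega A B :=
    { toFun := e0
      map_add' := fun x y => Disc.Omega.ext (LinearMap.ext fun b => hinj (by
        rw [Disc.Omega.add_toLinearMap, LinearMap.add_apply, map_add, he0, he0, he0, Submodule.coe_add,
          add_mul, map_add]))
      map_smul' := fun c x => Disc.Omega.ext (LinearMap.ext fun b => hinj (by
        rw [RingHom.id_apply, Disc.Omega.smul_toLinearMap_apply, he0, he0, Submodule.coe_smul,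
          Algebra.smul_def, map_mul (algebraMap B L), mul_left_comm, mul_assoc])) }
  have hbij : Function.Bijective e1 := by
    constructor
    · intro x y hxy
      apply Subtype.ext
      rw [← sub_eq_zero]
      refine EtaleTrace.trace_eq_zero_iff K L fun z => ?_
      have : (Algebra.trace K L).comp (LinearMap.mulLeft K ((x : L) - y)) = 0 := by
        refine ext_of_algebraMap h fun b => ?_
        have h1 : e0 x = e0 y := hxy
        simp only [LinearMap.comp_apply, LinearMap.mulLeft_apply, sub_mul, map_sub,
          LinearMap.zero_apply]
        rw [← he0, ← he0, h1, sub_self]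
      exact LinearMap.congr_fun this z
    · intro φ
      obtain ⟨F, hF⟩ := exists_extend h φ.toLinearMap
      obtain ⟨x, hx⟩ := EtaleTrace.exists_trace_eq K L F
      refine ⟨⟨x, fun b => ⟨φ.toLinearMap b, by rw [hx, hF]⟩⟩,
        Disc.Omega.ext (LinearMap.ext fun b => hinj ?_)⟩
      show algebraMap A K ((e0 _).toLinearMap b) = _
      rw [he0, hx, hF]
  exact ⟨LinearEquiv.ofBijective e1 hbij, fun x b => he0 x b⟩

/-- The trace of a flat finite algebra takes values in the base. -/
theorem one_mem_of_flat (h : _root_.QFDual.IsDedekindDefined A K B L) [Module.Flat A B] :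
    (1 : L) ∈ _root_.QFDual.complementary A K B L := by
  classical
  have := h.isNoetherianRing
  have := h.finite
  have := h.free
  have := h.finiteKL
  have : Module.FinitePresentation A B := Module.finitePresentation_of_finite A B
  have : Module.Projective A B := Module.Flat.projective_of_finitePresentation
  obtain ⟨n, p, hp⟩ := Module.Finite.exists_fin' A B
  obtain ⟨s, hs⟩ := Module.projective_lifting_property p LinearMap.id hp
  choose F hF using fun i => exists_extend h ((LinearMap.proj i).comp s)
  intro b
  refine ⟨∑ i, s (b * p (Pi.single i 1)) i, ?_⟩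
  have key : LinearMap.mulLeft K ((1 : L) * algebraMap B L b) =
      ∑ i, (F i).smulRight (algebraMap B L (b * p (Pi.single i 1))) := by
    refine ext_of_algebraMap h fun c => ?_
    have hc : c = ∑ i, s c i • p (Pi.single i 1) := by
      conv_lhs => rw [← show p (s c) = c from LinearMap.congr_fun hs c, pi_eq_sum_univ' (s c)]
      simp [map_sum, map_smul]
    simp only [LinearMap.mulLeft_apply, one_mul, LinearMap.coe_sum, Finset.sum_apply,
      LinearMap.smulRight_apply, hF, LinearMap.comp_apply, LinearMap.proj_apply, algebraMap_smul]
    conv_lhs => rw [← map_mul, hc, Finset.mul_sum, map_sum]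
    refine Finset.sum_congr rfl fun i _ => ?_
    rw [mul_smul_comm, Algebra.smul_def, map_mul, Algebra.smul_def, ← IsScalarTower.algebraMap_apply]
  show _ = LinearMap.trace K L (LinearMap.mulLeft K ((1 : L) * algebraMap B L b))
  rw [key, map_sum, map_sum]
  refine Finset.sum_congr rfl fun i _ => ?_
  rw [LinearMap.trace_smulRight, hF]
  rfl

end Groth.Agent.Lib.QFDual.Complementary
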