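import Groth.Agent.Lib.QFDual.FlatBase
import Groth.Agent.Lib.QFDual.AnnBaseChange
import Mathlib.LinearAlgebra.Trace
import Mathlib.RingTheory.PicardGroup
import Mathlib.RingTheory.Flat.Stability

/-!
# The different of a finite free algebra under base change
-/

universe u

open TensorProduct

namespace Groth.Agent.Lib.QFDual.Different

variable {A B A' B' : Type u} [CommRing A] [CommRing B] [CommRing A'] [CommRing B']
  [Algebra A B] [Module.Finite A B] [Module.Free A B] [Algebra A A'] [Algebra B B'] [Algebra A' B']
  [Algebra A B'] [IsScalarTower A A' B'] [IsScalarTower A B B']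

omit [Module.Finite A B] [Module.Free A B] [Algebra A A'] [Algebra B B'] [Algebra A' B']
  [Algebra A B'] [IsScalarTower A A' B'] [IsScalarTower A B B'] [CommRing A'] [CommRing B'] in
theorem mem_different_iff_annihilator {M : Type*} [AddCommGroup M] [Module B M] (τ : M) (b : B) :
    b ∈ _root_.QFDual.different B τ ↔ b ∈ Module.annihilator B (M ⧸ B ∙ τ) := by
  rw [_root_.QFDual.mem_different_iff, Module.mem_annihilator]
  constructor
  · intro h m
    obtain ⟨m, rfl⟩ := Submodule.mkQ_surjective _ m
    rw [← map_smul, Submodule.mkQ_apply, Submodule.Quotient.mk_eq_zero]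
    exact Submodule.mem_span_singleton.2 (h m)
  · intro h m
    have := h (Submodule.Quotient.mk m)
    rw [← Submodule.Quotient.mk_smul, Submodule.Quotient.mk_eq_zero] at this
    exact Submodule.mem_span_singleton.1 this

/-- The base change isomorphism of `Hom_A(B, A)` in the free case. -/
noncomputable def omegaEquiv (h : Algebra.IsPushout A A' B B') :
    B' ⊗[B] Disc.Omega A B ≃ₗ[B'] Disc.Omega A' B' :=
  (LinearEquiv.ofBijective _
    (FlatBase.omegaBC_self_bijective_of h (IsBaseChange.dual h.out))).trans
    (TensorProduct.lid B' _)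

theorem omegaEquiv_tmul (h : Algebra.IsPushout A A' B B') (x : B') (φ : Disc.Omega A B) :
    omegaEquiv h (x ⊗ₜ φ) = x • _root_.QFDual.bcFin h φ := by
  simp [omegaEquiv]

theorem bcFin_trace (h : Algebra.IsPushout A A' B B') [Module.Finite A' B'] [Module.Free A' B'] :
    _root_.QFDual.bcFin h (Disc.Omega.trace A B) = Disc.Omega.trace A' B' := by
  apply Disc.Omega.ext
  refine LinearMap.ext fun y => ?_
  obtain ⟨z, rfl⟩ := h.out.equiv.surjective y
  induction z using TensorProduct.induction_on with
  | zero => simp
  | add a b ha hb => rw [map_add, map_add, map_add, ha, hb]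
  | tmul a b =>
    have hb : Algebra.lmul A' B' (algebraMap B B' b) =
        h.out.equiv.conj ((Algebra.lmul A B b).baseChange A') := by
      refine LinearMap.ext fun w => ?_
      obtain ⟨v, rfl⟩ := h.out.equiv.surjective w
      rw [LinearEquiv.conj_apply_apply, LinearEquiv.symm_apply_apply]
      induction v using TensorProduct.induction_on with
      | zero => simp
      | add p q hp hq => rw [map_add, map_add, map_add, map_add, hp, hq]
      | tmul p q =>
        simp only [LinearMap.baseChange_tmul, IsBaseChange.equiv_tmul, Algebra.coe_lmul_eq_mul,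
          LinearMap.mul_apply', IsScalarTower.coe_toAlgHom', AlgHom.toLinearMap_apply]
        rw [mul_smul_comm, map_mul]
    show h.out.toDual (Algebra.trace A B) (h.out.equiv (a ⊗ₜ b)) = Algebra.trace A' B' (h.out.equiv (a ⊗ₜ b))
    rw [IsBaseChange.equiv_tmul, map_smul, map_smul, h.out.toDual_comp_apply]
    congr 1
    show algebraMap A A' (LinearMap.trace A B (Algebra.lmul A B b)) =
      LinearMap.trace A' B' (Algebra.lmul A' B' (algebraMap B B' b))
    rw [hb, LinearMap.trace_conj', LinearMap.trace_baseChange]

theorem map_different_le (h : Algebra.IsPushout A A' B B') [Module.Finite A' B'] [Module.Free A' B'] :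
    Ideal.map (algebraMap B B') (_root_.QFDual.different B (Disc.Omega.trace A B)) ≤
      _root_.QFDual.different B' (Disc.Omega.trace A' B') := by
  refine Ideal.map_le_iff_le_comap.2 fun b hb => ?_
  rw [Ideal.mem_comap, _root_.QFDual.mem_different_iff]
  intro ψ
  obtain ⟨z, rfl⟩ := (omegaEquiv h).surjective ψ
  induction z using TensorProduct.induction_on with
  | zero => exact ⟨0, by simp⟩
  | add x y hx hy =>
    obtain ⟨c, hc⟩ := hx; obtain ⟨d, hd⟩ := hy
    exact ⟨c + d, by rw [add_smul, hc, hd, map_add, smul_add]⟩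
  | tmul x φ =>
    obtain ⟨c, hc⟩ := (_root_.QFDual.mem_different_iff B _ b).1 hb φ
    refine ⟨x * algebraMap B B' c, ?_⟩
    rw [omegaEquiv_tmul, smul_comm, mul_smul, ← bcFin_trace h, ← LinearMap.map_smulₛₗ, hc,
      LinearMap.map_smulₛₗ]

theorem different_le_annihilator (h : Algebra.IsPushout A A' B B') [Module.Finite A' B']
    [Module.Free A' B'] :
    _root_.QFDual.different B' (Disc.Omega.trace A' B') ≤
      Module.annihilator B' (B' ⊗[B] (Disc.Omega A B ⧸ B ∙ Disc.Omega.trace A B)) := by
  intro x hx
  rw [Module.mem_annihilator]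
  intro z
  obtain ⟨z, rfl⟩ := LinearMap.lTensor_surjective B' (g := (B ∙ Disc.Omega.trace A B).mkQ)
    (Submodule.mkQ_surjective _) z
  obtain ⟨c, hc⟩ := (_root_.QFDual.mem_different_iff B' _ x).1 hx (omegaEquiv h z)
  have : x • z = c ⊗ₜ[B] Disc.Omega.trace A B := by
    apply (omegaEquiv h).injective
    rw [map_smul, omegaEquiv_tmul, bcFin_trace h, hc]
  have hlin : ∀ z, x • (B ∙ Disc.Omega.trace A B).mkQ.lTensor B' z =
      (B ∙ Disc.Omega.trace A B).mkQ.lTensor B' (x • z) := by
    intro z
    induction z using TensorProduct.induction_on with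
    | zero => simp
    | add p q hp hq => simp only [smul_add, map_add, hp, hq]
    | tmul p q => simp [TensorProduct.smul_tmul']
  rw [hlin, this, LinearMap.lTensor_tmul, Submodule.mkQ_apply,
    (Submodule.Quotient.mk_eq_zero _).2 (Submodule.mem_span_singleton_self _), TensorProduct.tmul_zero]

/-- For an invertible dualizing module the different commutes with every base change. -/
theorem different_le_map_of_invertible (h : Algebra.IsPushout A A' B B') [Module.Finite A' B']
    [Module.Free A' B'] [Module.Invertible B (Disc.Omega A B)] :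
    _root_.QFDual.different B' (Disc.Omega.trace A' B') ≤
      Ideal.map (algebraMap B B') (_root_.QFDual.different B (Disc.Omega.trace A B)) := by
  intro x hx
  let M := Disc.Omega A B
  let ev := contractLeft B M
  have hev : Function.Bijective ev := Module.Invertible.bijective (R := B) (M := M)
  have hcomm : ∀ (f : Module.Dual B M) (m n : M), f m • n = f n • m := by
    intro f m n
    let e := TensorProduct.comm B M M
    have key : ∀ z : M ⊗[B] M, z = e z := by
      intro z
      exact (DFunLike.congr_fun (Module.Invertible.tensorProductComm_eq_refl (R := B) (M := M)) z).symm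
    have := congrArg (fun z => TensorProduct.lid B M (f.rTensor M z)) (key (m ⊗ₜ n))
    simpa [e] using this
  have hD : ∀ f : Module.Dual B M, f (Disc.Omega.trace A B) ∈ _root_.QFDual.different B (Disc.Omega.trace A B) := by
    intro f
    rw [_root_.QFDual.mem_different_iff]
    intro m
    exact ⟨f m, hcomm f m _⟩
  obtain ⟨w, hw⟩ := hev.2 1
  obtain ⟨T, hT⟩ := TensorProduct.exists_finset w
  have h1 : ∑ p ∈ T, p.1 p.2 = (1 : B) := by
    rw [← hw, hT, map_sum]; rfl
  have hx' : x = ∑ p ∈ T, x * algebraMap B B' (p.1 p.2) := by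
    rw [← Finset.mul_sum, ← map_sum, h1, map_one, mul_one]
  rw [hx']
  refine Ideal.sum_mem _ fun p _ => ?_
  let g : B' ⊗[B] M →ₗ[B'] B' :=
    (TensorProduct.AlgebraTensorModule.rid B B' B').toLinearMap ∘ₗ (LinearMap.baseChange B' p.1)
  let g' : Disc.Omega A' B' →ₗ[B'] B' := g ∘ₗ (omegaEquiv h).symm.toLinearMap
  have hg : ∀ y φ, g' (y • _root_.QFDual.bcFin h φ) = y * algebraMap B B' (p.1 φ) := by
    intro y φ
    rw [← omegaEquiv_tmul h]
    simp [g', g, Algebra.smul_def, mul_comm]
  obtain ⟨c, hc⟩ := (_root_.QFDual.mem_different_iff B' _ x).1 hx (_root_.QFDual.bcFin h p.2)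
  have := congrArg g' hc
  rw [← bcFin_trace h, hg, hg] at this
  rw [← this]
  exact Ideal.mul_mem_left _ _ (Ideal.mem_map_of_mem _ (hD p.1))

omit [Module.Free A B] [Algebra A A'] [Algebra B B'] [Algebra A' B']
  [Algebra A B'] [IsScalarTower A A' B'] [IsScalarTower A B B'] [CommRing A'] [CommRing B'] in
theorem finite_omega [Module.Free A B] : Module.Finite B (Disc.Omega A B) := by
  obtain ⟨n, p, hp⟩ := Module.Finite.exists_fin' A (B →ₗ[A] A)
  let g : Fin n → Disc.Omega A B := fun i => ⟨p (Pi.single i 1)⟩
  refine Module.Finite.of_surjective (Fintype.linearCombination B g) fun φ => ?_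
  obtain ⟨c, hc⟩ := hp φ.toLinearMap
  refine ⟨fun i => algebraMap A B (c i), Disc.Omega.ext (LinearMap.ext fun b => ?_)⟩
  rw [← hc]
  conv_rhs => rw [pi_eq_sum_univ' c]
  rw [Fintype.linearCombination_apply]
  let F : Disc.Omega A B →+ A :=
    { toFun := fun ψ => ψ.toLinearMap b, map_zero' := rfl, map_add' := fun _ _ => rfl }
  show F (∑ i, algebraMap A B (c i) • g i) = _
  simp [F, g, ← Algebra.smul_def]

theorem map_different_eq_map_annihilator :
    Ideal.map (algebraMap B B') (_root_.QFDual.different B (Disc.Omega.trace A B)) =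
      Ideal.map (algebraMap B B')
        (Module.annihilator B (Disc.Omega A B ⧸ B ∙ Disc.Omega.trace A B)) :=
  congrArg _ (SetLike.ext fun b => mem_different_iff_annihilator _ b)

end Groth.Agent.Lib.QFDual.Different
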